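import Groth.Agent.S4270
import Groth.Agent.S4271
import Groth.Agent.CohQC.Bound
import Groth.Agent.StratCoh.Main
import Groth.Agent.CohFinite.Linear
import Groth.Agent.K0ResLF.Pd

/-! Cohomological dimension is detected by finite locally free modules on a regular separated scheme. -/

set_option autoImplicit false
set_option backward.isDefEq.respectTransparency false
set_option linter.style.haveILetI false

universe u

open CategoryTheory CategoryTheory.Limits AlgebraicGeometry TopologicalSpace

noncomputable section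

namespace Groth.Agent.CohDimLF

variable {X : Scheme.{u}}

/-- cohomology of quasi-coherent modules vanishes in large degrees -/
theorem exists_bound_hh [CompactSpace X] [QuasiSeparatedSpace X] :
    ∃ d : ℕ, ∀ (M : X.Modules), Coh.IsQCoh M → ∀ p : ℕ, d ≤ p → Subsingleton (Coh.HH X M p) := by
  obtain ⟨d, hd⟩ := CohQC.exists_bound (X := X) ⊤ isQuasiSeparated_univ ⊤ isCompact_univ le_rfl
  refine ⟨d, fun M hM p hp => StratCoh.hh_of_hu ?_⟩
  have h := hd M hM p hp 1
  rwa [Scheme.basicOpen_of_isUnit _ isUnit_one] at h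

theorem resolution [CompactSpace X] [IsLocallyNoetherian X] [X.IsSeparated]
    (hreg : ∀ x : X, IsRegularLocalRing (X.presheaf.stalk x)) {F : X.Modules} (hF : Coh.IsCoh F) :
    ∃ S : ShortComplex X.Modules, S.ShortExact ∧ S.X₃ = F ∧ FlatMod.IsFinLocFree S.X₂ ∧ Coh.IsCoh S.X₁ := by
  have hX := S4270.result X (S4271.result X hreg fun U V hU hV => hU.inf hV)
  obtain ⟨E, π, hE, hπ⟩ := hX F hF.1 hF.2
  haveI := hπ
  exact ⟨K0Res.kerSeq π, K0Res.kerSeq_shortExact π, rfl, hE,
    K0ResLF.isCoh_left (K0Res.kerSeq_shortExact π) (K0Coh.isCoh_of_isFinLocFree hE) hF⟩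

/-- a property of cohomology in degrees above `r` spreads from locally free to coherent modules -/
theorem induct [CompactSpace X] [QuasiSeparatedSpace X] [IsLocallyNoetherian X] [X.IsSeparated]
    (hreg : ∀ x : X, IsRegularLocalRing (X.presheaf.stalk x)) (P : X.Modules → ℕ → Prop)
    (hsub : ∀ M i, Subsingleton (Coh.HH X M i) → P M i)
    (step : ∀ (S : ShortComplex X.Modules), S.ShortExact → ∀ i, P S.X₂ i → P S.X₁ (i + 1) → P S.X₃ i)
    (r : ℕ) (hlf : ∀ E : X.Modules, FlatMod.IsFinLocFree E → ∀ i : ℕ, r < i → P E i)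
    (F : X.Modules) (hF : Coh.IsCoh F) (i : ℕ) (hi : r < i) : P F i := by
  obtain ⟨d, hd⟩ := exists_bound_hh (X := X)
  obtain ⟨n, hn⟩ : ∃ n, d ≤ i + n := ⟨d, by omega⟩
  induction n generalizing F i with
  | zero => exact hsub F i (hd F hF.1 i (by omega))
  | succ n ih =>
    obtain ⟨S, hS, rfl, hE, hK⟩ := resolution hreg hF
    exact step S hS i (hlf _ hE i hi) (ih _ hK (i + 1) (by omega) (by omega))

theorem subsingleton_right {S : ShortComplex X.Modules} (hS : S.ShortExact) (q : ℕ)
    (hB : Subsingleton (Coh.HH X S.X₂ q)) (hA : Subsingleton (Coh.HH X S.X₁ (q + 1))) :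
    Subsingleton (Coh.HH X S.X₃ q) := by
  refine subsingleton_of_forall_eq 0 fun x => ?_
  obtain ⟨y, hy⟩ := Abelian.Ext.covariant_sequence_exact₃ (SiteCoh.constZ (Opens.grothendieckTopology X))
    (CohQC.seq_shortExact hS) x rfl (@Subsingleton.elim _ hA _ _)
  rw [← hy, @Subsingleton.elim _ hB y 0, Abelian.Ext.zero_comp]

end Groth.Agent.CohDimLF
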